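import Cfsg.Agent.BHZ.Nil.Alt
import Cfsg.Agent.H712.GmnStrong
import Cfsg.Agent.H858.SN.SLTwo
import Mathlib.GroupTheory.Transfer
import Cfsg.Prelude.Def_Solvable

/-!
# The case `K(D) = S`
-/

set_option autoImplicit false
set_option linter.unusedSectionVars false

namespace Cfsg.Agent.BHZ.Nil

open Cfsg Cfsg.Agent.H712.Gmn

variable {p : ℕ} [hp : Fact p.Prime] {S : Type*} [Group S] [Finite S] {D : Subgroup S}

theorem Loc.exists_sylow (h : Loc p S D) (hK : KK p D = ⊤) :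
    ∃ P : Sylow p S, (P : Subgroup S) = D := by
  obtain ⟨P, hP⟩ := h.pg.exists_le_sylow
  exact ⟨P, h.syl _ P.isPGroup' hP (hK ▸ le_top)⟩

theorem Loc.fus_top (h : Loc p S D) (hK : KK p D = ⊤) (hS : commutator S = ⊤) {x : S}
    (hx : x ∈ Subgroup.normalizer (D : Set S)) (hr : ¬ p ∣ orderOf x) :
    x ∈ Subgroup.centralizer (D : Set S) :=
  h.fus D le_rfl x hx (by rw [hK, ← commutator_def, hS]; trivial) hr

theorem Loc.false_of_rowS (h : Loc p S D) (hK : KK p D = ⊤) (hS : commutator S = ⊤)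
    (hZ : Subgroup.center S = ⊥) (hR : RowS p S) : False := by
  obtain ⟨P, rfl⟩ := h.exists_sylow hK
  obtain ⟨x, hx, h1, t, ht, h2⟩ := hR ((P : Subgroup S).map MulAut.conj) (P.isPGroup'.map _) P
    fun x hx => ⟨x, hx, rfl⟩
  have hinj : Function.Injective (MulAut.conj : S →* MulAut S) := by
    rw [← MonoidHom.ker_eq_bot_iff, eq_bot_iff, ← hZ]
    intro y hy
    refine Subgroup.mem_center_iff.2 fun g => ?_
    have := congrArg (fun f : MulAut S => f g) (MonoidHom.mem_ker.1 hy)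
    simp only [MulAut.conj_apply, MulAut.one_apply] at this
    exact (mul_inv_eq_iff_eq_mul.1 this).symm
  have hN : x ∈ Subgroup.normalizer ((P : Subgroup S) : Set S) := by
    refine Subgroup.mem_normalizer_fintype fun k hk => ?_
    obtain ⟨y, hy, hy'⟩ := h1 _ ⟨k, hk, rfl⟩
    rw [← map_inv, ← map_mul, ← map_mul] at hy'
    rw [← hinj hy']
    exact hy
  apply h2
  rw [← Subgroup.mem_centralizer_iff.1 (h.fus_top hK hS hN hx) t ht, mul_inv_cancel_right]

/-- Every element is the product of a `p`-element and a `p`-regular element, both its powers. -/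
theorem exists_p_mul_reg (x : S) : ∃ a b k : ℕ, x = x ^ a * x ^ b ∧ (x ^ a) ^ p ^ k = 1 ∧
    ¬ p ∣ orderOf (x ^ b) := by
  obtain ⟨k, m, hm, hkm⟩ := Nat.exists_eq_pow_mul_and_not_dvd (orderOf_pos x).ne' p hp.out.ne_one
  have hc : (p ^ k).Coprime m := Nat.Coprime.pow_left _ ((Nat.Prime.coprime_iff_not_dvd hp.out).2 hm)
  obtain ⟨b, hb1, hb2⟩ := Nat.chineseRemainder hc 0 1
  obtain ⟨a, ha1, ha2⟩ := Nat.chineseRemainder hc 1 0
  refine ⟨a, b, k, ?_, ?_, fun hd => hm (hd.trans (orderOf_dvd_of_pow_eq_one ?_))⟩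
  · rw [← pow_add]
    conv_lhs => rw [← pow_one x]
    rw [pow_eq_pow_iff_modEq, hkm]
    exact ((Nat.modEq_and_modEq_iff_modEq_mul hc).1 ⟨ha1.add hb1, ha2.add hb2⟩).symm
  · rw [← pow_mul, ← orderOf_dvd_iff_pow_eq_one, hkm, mul_comm a]
    exact Nat.mul_dvd_mul_left _ (Nat.modEq_zero_iff_dvd.1 ha2)
  · rw [← pow_mul, ← orderOf_dvd_iff_pow_eq_one, hkm]
    exact Nat.mul_dvd_mul_right (Nat.modEq_zero_iff_dvd.1 hb1) _

theorem Loc.eq_bot_of_abelian (h : Loc p S D) (hK : KK p D = ⊤) (hS : commutator S = ⊤)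
    (hD : IsMulCommutative D) : D = ⊥ := by
  obtain ⟨P, rfl⟩ := h.exists_sylow hK
  have hN : Subgroup.normalizer ((P : Subgroup S) : Set S) ≤
      Subgroup.centralizer ((P : Subgroup S) : Set S) := by
    intro x hx
    obtain ⟨a, b, k, h1, h2, h3⟩ := exists_p_mul_reg (p := p) x
    rw [h1]
    refine mul_mem ?_ (h.fus_top hK hS (pow_mem hx b) h3)
    have h4 : x ^ a ∈ (P : Subgroup S) := by
      have h5 := (isPGroup_zpowers_of_pow h2).inf_normalizer_sylow P
      have h6 : x ^ a ∈ Subgroup.zpowers (x ^ a) ⊓ Subgroup.normalizer ((P : Subgroup S) : Set S) :=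
        ⟨Subgroup.mem_zpowers _, pow_mem hx a⟩
      exact (h5.le h6).2
    exact Subgroup.le_centralizer _ h4
  have h1 : (MonoidHom.transferSylow P hN).ker = ⊤ := by
    rw [eq_top_iff, ← hS]
    refine Subgroup.commutator_le.2 fun a _ b _ => ?_
    rw [MonoidHom.mem_ker, map_commutatorElement, commutatorElement_eq_one_iff_mul_comm]
    exact hD.1.1 _ _
  have h2 := MonoidHom.ker_transferSylow_disjoint P hN P P.isPGroup'
  rwa [h1, top_disjoint] at h2

theorem psl2_three_comm {F : Type*} [Field F] [Finite F]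
    {D : Subgroup (Matrix.ProjectiveSpecialLinearGroup (Fin 2) F)} (hD : IsPGroup 3 D) :
    IsMulCommutative D := by
  have : Fact (Nat.Prime 3) := ⟨Nat.prime_three⟩
  obtain ⟨P, hP, -, rfl⟩ := exists_lift_pgroup (D := ⊥) (QuotientGroup.mk'_surjective _)
    IsPGroup.of_bot hD (by simp)
  obtain ⟨Q, hQ⟩ := hP.exists_le_sylow
  have := H858.SN.sylow_comm_SL2 Q
  refine isMulCommutative_map _ ⟨⟨fun a b => ?_⟩⟩
  have h1 := congrArg Subtype.val (this.1.1 ⟨a, hQ a.2⟩ ⟨b, hQ b.2⟩)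
  exact Subtype.ext h1

/-- With a row of the GMN table, `K(D) = S` forces `D = 1`. -/
theorem Loc.eq_bot_of_goal (h : Loc p S D) (hK : KK p D = ⊤) (hS : commutator S = ⊤)
    (hZ : Subgroup.center S = ⊥) (hR : RowS p S ∨ (p = 3 ∧ ∃ (F : Type) (_ : Field F) (_ : Finite F),
      Nonempty (S ≃* Matrix.ProjectiveSpecialLinearGroup (Fin 2) F))) : D = ⊥ := by
  rcases hR with hR | ⟨rfl, F, _, _, ⟨e⟩⟩
  · exact (h.false_of_rowS hK hS hZ hR).elim
  · refine h.eq_bot_of_abelian hK hS ?_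
    have h1 := isMulCommutative_map e.symm.toMonoidHom (psl2_three_comm (h.pg.map e.toMonoidHom))
    rw [Subgroup.map_map] at h1
    have : e.symm.toMonoidHom.comp e.toMonoidHom = MonoidHom.id S := by
      ext x; simp
    rwa [this, Subgroup.map_id] at h1

theorem KK_eq_top_of_le (hD : IsPGroup p D) (hC : Subgroup.centralizer (D : Set S) ≤ D) :
    KK p D = ⊤ := by
  rw [eq_top_iff]
  intro x _
  refine mem_KK_iff.2 fun y hy hr => ?_
  obtain ⟨n, hn⟩ := hD ⟨y, hC hy⟩
  obtain ⟨k, -, hk⟩ := (Nat.dvd_prime_pow hp.out).1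
    (orderOf_dvd_of_pow_eq_one (congrArg Subtype.val hn : y ^ p ^ n = 1))
  rcases k with _ | k
  · rw [orderOf_eq_one_iff.1 (by simpa using hk : orderOf y = 1), one_mul, mul_one]
  · exact absurd (hk ▸ dvd_pow_self p k.succ_ne_zero) hr

/-- `D = O_p(N(D))`. -/
theorem Loc.pCore_eq (h : Loc p S D) :
    pCore p (Subgroup.normalizer (D : Set S)) = D.subgroupOf (Subgroup.normalizer (D : Set S)) := by
  have hn : (pCore p (Subgroup.normalizer (D : Set S))).Normal :=
    Subgroup.sSup_normal _ fun _ hN => hN.1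
  have hpg : IsPGroup p (pCore p (Subgroup.normalizer (D : Set S))) :=
    Sylow.sSup_of_normal _ (fun _ hN => hN.2) (fun _ hN => hN.1)
  have h2 : D.subgroupOf (Subgroup.normalizer (D : Set S)) ≤
      pCore p (Subgroup.normalizer (D : Set S)) :=
    le_sSup ⟨Subgroup.normal_in_normalizer, h.pg.comap_subtype⟩
  have h3 := h.rad _ (hpg.map (Subgroup.normalizer (D : Set S)).subtype)
    (fun d hd => ⟨⟨d, Subgroup.le_normalizer hd⟩, h2 hd, rfl⟩) (by
      intro x hx
      refine Subgroup.mem_normalizer_fintype ?_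
      rintro _ ⟨k, hk, rfl⟩
      exact ⟨⟨x, hx⟩ * k * ⟨x, hx⟩⁻¹, hn.conj_mem k hk _, rfl⟩) (Subgroup.map_subtype_le _)
  refine le_antisymm (fun k hk => ?_) h2
  exact h3.le ⟨k, hk, rfl⟩

/-- If `N(D)` has characteristic `p`, then `C(D) ≤ D`. -/
theorem Loc.centralizer_le_of_char (h : Loc p S D)
    (hc : Subgroup.centralizer (pCore p (Subgroup.normalizer (D : Set S)) :
      Set (Subgroup.normalizer (D : Set S))) ≤ pCore p (Subgroup.normalizer (D : Set S))) :
    Subgroup.centralizer (D : Set S) ≤ D := by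
  rw [h.pCore_eq] at hc
  intro x hx
  exact hc (x := ⟨x, Subgroup.centralizer_le_normalizer _ hx⟩)
    (Subgroup.mem_centralizer_iff.2 fun k hk =>
      Subtype.ext (Subgroup.mem_centralizer_iff.1 hx k hk))

end Cfsg.Agent.BHZ.Nil
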