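import Cfsg.Agent.BHZ.Nil.Cover
import Mathlib.GroupTheory.SpecificGroups.Alternating.Centralizer
import Mathlib.GroupTheory.Perm.ViaEmbedding
import Mathlib.GroupTheory.Nilpotent
import Mathlib.Data.Nat.Multiplicity

/-!
# The alternating groups: `Loc` forces `D` to be cyclic
-/

set_option autoImplicit false
set_option linter.unusedSectionVars false

namespace Cfsg.Agent.BHZ.Nil

open Equiv

universe u

variable {p : ℕ} [hp : Fact p.Prime]

/-- The strong form of radicality. -/
theorem Loc.rad' {X : Type*} [Group X] [Finite X] {D : Subgroup X} (h : Loc p X D)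
    {P : Subgroup X} (hP : IsPGroup p P) (hle : D ≤ P)
    (hN : Subgroup.normalizer (D : Set X) ≤ Subgroup.normalizer (P : Set X)) : P = D := by
  have h1 : P ⊓ Subgroup.normalizer (D : Set X) = D := by
    refine h.rad _ hP.to_inf_left (le_inf hle Subgroup.le_normalizer) ?_ inf_le_right
    exact (le_inf hN Subgroup.le_normalizer).trans Subgroup.inf_normalizer_le_normalizer_inf
  have := hP.isNilpotent
  have h2 := normalizerCondition_iff_only_full_group_self_normalizing.1
    (Group.normalizerCondition_of_isNilpotent (G := P)) (D.subgroupOf P) (by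
      rw [← Subgroup.subgroupOf_normalizer_eq hle, ← Subgroup.inf_subgroupOf_left, h1])
  exact le_antisymm (Subgroup.subgroupOf_eq_top.1 h2) hle

section

variable {α : Type*} [Fintype α] [DecidableEq α]

theorem sign_of_pelt (hp2 : p ≠ 2) {g : Perm α} {n : ℕ} (hg : g ^ p ^ n = 1) :
    Perm.sign g = 1 := by
  have h1 := congrArg Perm.sign hg
  obtain ⟨m, hm⟩ := (hp.out.odd_of_ne_two hp2).pow (n := n)
  rwa [map_pow, hm, pow_succ, pow_mul, Int.units_sq, one_pow, one_mul, map_one] at h1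

/-- A `p`-regular element centralizing `Q` fixes a point whose orbit carries the support of an
element of `Q`. -/
theorem fix_of_reg {Q : Subgroup (alternatingGroup α)} (hQ : IsPGroup p Q)
    {y : alternatingGroup α} (hy : y ∈ Subgroup.centralizer (Q : Set (alternatingGroup α)))
    (hr : ¬ p ∣ orderOf y) {x : α} {d : alternatingGroup α} (hd : d ∈ Q) (hdx : d.1 x ≠ x)
    (hs : ∀ w, d.1 w ≠ w → ∃ e ∈ Q, (e : alternatingGroup α).1 x = w) : y.1 x = x := by
  have hc : ∀ e ∈ Q, ∀ w, (e : alternatingGroup α).1 (y.1 w) = y.1 (e.1 w) := fun e he w =>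
    congrArg (fun g : alternatingGroup α => g.1 w) (Subgroup.mem_centralizer_iff.1 hy e he)
  obtain ⟨e, he, hex⟩ := hs (y.1 x) (by
    rw [hc d hd]
    exact fun h => hdx (y.1.injective h))
  have h1 : ∀ n : ℕ, (y ^ n).1 x = (e ^ n).1 x := by
    intro n
    induction n with
    | zero => simp
    | succ n ih =>
      rw [pow_succ', pow_succ, Subgroup.coe_mul, Subgroup.coe_mul, Perm.mul_apply, Perm.mul_apply,
        ih, hex, hc _ (pow_mem he n)]
  obtain ⟨k, hk⟩ := hQ ⟨e, he⟩
  have h2 : (y ^ p ^ k).1 x = x := by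
    rw [h1, show e ^ p ^ k = 1 from congrArg Subtype.val hk]
    rfl
  obtain ⟨m, hm⟩ := exists_pow_eq_self_of_coprime (x := y) (n := p ^ k)
    (Nat.Coprime.pow_left _ ((Nat.Prime.coprime_iff_not_dvd hp.out).2 hr))
  rw [← hm, Subgroup.coe_pow]
  exact Perm.pow_apply_eq_self_of_apply_eq_self h2 m

theorem mem_KK_of_fix {Q : Subgroup (alternatingGroup α)} (hQ : IsPGroup p Q)
    {g : alternatingGroup α} (hg : ∀ x, g.1 x ≠ x → ∃ d ∈ Q, (d : alternatingGroup α).1 x ≠ x ∧
      ∀ w, d.1 w ≠ w → ∃ e ∈ Q, (e : alternatingGroup α).1 x = w) : g ∈ KK p Q := by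
  refine mem_KK_iff.2 fun y hy hr => Subtype.ext (Perm.Disjoint.commute fun x => ?_).eq
  by_cases hx : g.1 x = x
  · exact Or.inr hx
  · obtain ⟨d, hd, h1, h2⟩ := hg x hx
    exact Or.inl (fix_of_reg hQ hy hr hd h1 h2)

/-- The elements acting on each orbit of `D` like an element of `D`. -/
def orbClosure (D : Subgroup (alternatingGroup α)) : Subgroup (alternatingGroup α) where
  carrier := {g | ∀ x, ∃ d ∈ D, ∀ e ∈ D, g.1 (e.1 x) = d.1 (e.1 x)}
  mul_mem' := by
    intro a b ha hb x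
    obtain ⟨d, hd, h1⟩ := ha x
    obtain ⟨d', hd', h2⟩ := hb x
    refine ⟨d * d', mul_mem hd hd', fun e he => ?_⟩
    have h3 := h1 (d' * e) (mul_mem hd' he)
    simp only [Subgroup.coe_mul, Perm.mul_apply] at h3 ⊢
    rw [h2 e he, h3]
  one_mem' := fun _ => ⟨1, one_mem _, fun _ _ => rfl⟩
  inv_mem' := by
    intro a ha x
    obtain ⟨d, hd, h1⟩ := ha x
    refine ⟨d⁻¹, inv_mem hd, fun e he => ?_⟩
    have h3 := h1 (d⁻¹ * e) (mul_mem (inv_mem hd) he)
    simp only [Subgroup.coe_mul, Perm.mul_apply, Subgroup.coe_inv, Perm.coe_inv,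
      Equiv.apply_symm_apply] at h3 ⊢
    rw [Equiv.symm_apply_eq, h3]

theorem Loc.orbClosure_eq {D : Subgroup (alternatingGroup α)}
    (h : Loc p (alternatingGroup α) D) : orbClosure D = D := by
  refine h.rad' ?_ (fun d hd x => ⟨d, hd, fun _ _ => rfl⟩) ?_
  · obtain ⟨n, hn⟩ := h.pg.exists_card_eq
    intro ⟨g, hg⟩
    refine ⟨n, Subtype.ext (Subtype.ext (Equiv.ext fun x => ?_))⟩
    obtain ⟨d, hd, h1⟩ := hg x
    have h2 : ∀ m : ℕ, (g ^ m).1 x = (d ^ m).1 x := by
      intro m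
      induction m with
      | zero => simp
      | succ m ih =>
        rw [pow_succ', pow_succ', Subgroup.coe_mul, Subgroup.coe_mul, Perm.mul_apply,
          Perm.mul_apply, ih, h1 _ (pow_mem hd m)]
    have h3 : d ^ p ^ n = 1 := by
      have := pow_card_eq_one' (x := (⟨d, hd⟩ : D))
      rw [hn] at this
      exact congrArg Subtype.val this
    change (g ^ p ^ n).1 x = x
    rw [h2, h3]
    rfl
  · intro t ht
    refine Subgroup.mem_normalizer_fintype fun g hg x => ?_
    obtain ⟨d, hd, h1⟩ := hg ((t⁻¹).1 x)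
    refine ⟨t * d * t⁻¹, (Subgroup.mem_normalizer_iff.1 ht d).1 hd, fun e he => ?_⟩
    have h3 := h1 (t⁻¹ * e * t) ((Subgroup.mem_normalizer_iff''.1 ht e).1 he)
    simp only [Subgroup.coe_mul, Perm.mul_apply, Subgroup.coe_inv, Perm.coe_inv,
      Equiv.apply_symm_apply] at h3 ⊢
    rw [h3]

theorem Loc.exists_restrict (hp2 : p ≠ 2) {D : Subgroup (alternatingGroup α)}
    (h : Loc p (alternatingGroup α) D) {x : α} {d : alternatingGroup α} (hd : d ∈ D)
    (hdx : d.1 x ≠ x) : ∃ d' ∈ D, (d' : alternatingGroup α).1 x ≠ x ∧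
      ∀ w, d'.1 w ≠ w → ∃ e ∈ D, (e : alternatingGroup α).1 x = w := by
  classical
  let O : α → Prop := fun w => ∃ e ∈ D, (e : alternatingGroup α).1 x = w
  have hO : ∀ e ∈ D, ∀ w, O ((e : alternatingGroup α).1 w) ↔ O w := by
    intro e he w
    constructor
    · rintro ⟨e', he', h1⟩
      refine ⟨e⁻¹ * e', mul_mem (inv_mem he) he', ?_⟩
      simp only [Subgroup.coe_mul, Perm.mul_apply, Subgroup.coe_inv]
      rw [h1, Perm.coe_inv, Equiv.symm_apply_apply]
    · rintro ⟨e', he', rfl⟩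
      exact ⟨e * e', mul_mem he he', rfl⟩
  obtain ⟨n, hn⟩ := h.pg ⟨d, hd⟩
  have hn' : d.1 ^ p ^ n = 1 := congrArg (fun g : D => g.1.1) hn
  let g : Perm α := Perm.ofSubtype (d.1.subtypePerm (hO d hd))
  have hg : g ^ p ^ n = 1 := by
    simp only [g]
    rw [← map_pow, Perm.subtypePerm_pow]
    simp only [hn']
    exact map_one _
  have hg1 : ∀ w, O w → g w = d.1 w := fun w hw => Perm.ofSubtype_apply_of_mem _ hw
  have hg2 : ∀ w, ¬ O w → g w = w := fun w hw => Perm.ofSubtype_apply_of_not_mem _ hw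
  refine ⟨⟨g, Perm.mem_alternatingGroup.2 (sign_of_pelt hp2 hg)⟩, ?_, ?_, fun w hw => ?_⟩
  · rw [← h.orbClosure_eq]
    intro w
    by_cases hw : O w
    · exact ⟨d, hd, fun e he => hg1 _ ((hO e he w).2 hw)⟩
    · exact ⟨1, one_mem _, fun e he => hg2 _ (fun h' => hw ((hO e he w).1 h'))⟩
  · change g x ≠ x
    rwa [hg1 x ⟨1, one_mem _, rfl⟩]
  · by_contra hw'
    exact hw (hg2 w hw')

/-- The map of alternating groups induced by an embedding. -/
noncomputable def altEmb {β : Type*} [Fintype β] [DecidableEq β] (ι : β ↪ α) :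
    alternatingGroup β →* alternatingGroup α :=
  ((Perm.viaEmbeddingHom ι).comp (alternatingGroup β).subtype).codRestrict _ fun g => by
    classical
    rw [Perm.mem_alternatingGroup]
    change Perm.sign (Perm.viaEmbedding g.1 ι) = 1
    rw [Perm.viaEmbedding]
    convert (Perm.sign_extendDomain g.1 (ofInjective ι.1 ι.2)).trans (Perm.mem_alternatingGroup.1 g.2)

theorem altEmb_apply {β : Type*} [Fintype β] [DecidableEq β] (ι : β ↪ α) (g : alternatingGroup β)
    (b : β) : (altEmb ι g).1 (ι b) = ι (g.1 b) := Perm.viaEmbedding_apply g.1 ι b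

theorem altEmb_apply_of_notMem {β : Type*} [Fintype β] [DecidableEq β] (ι : β ↪ α)
    (g : alternatingGroup β) {x : α} (hx : x ∉ Set.range ι) : (altEmb ι g).1 x = x :=
  Perm.viaEmbedding_apply_of_notMem g.1 ι x hx

theorem Loc.not_embedding (hp2 : p ≠ 2) {D : Subgroup (alternatingGroup α)}
    (h : Loc p (alternatingGroup α) D) (ι : ZMod p ⊕ ZMod p ↪ α)
    (hι : ∀ b, ∃ d ∈ D, (d : alternatingGroup α).1 (ι b) ≠ ι b) : False := by
  have hp3 : 3 ≤ p := by
    have := hp.out.two_le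
    omega
  have hadd : (Equiv.addRight (1 : ZMod p)) ^ p = 1 := by
    have h1 : ∀ n : ℕ, (Equiv.addRight (1 : ZMod p)) ^ n = Equiv.addRight (n : ZMod p) := by
      intro n
      induction n with
      | zero => ext; simp
      | succ n ih => rw [pow_succ', ih]; ext; simp [add_assoc]
    rw [h1]
    ext; simp
  have hs : Perm.sign (Equiv.addRight (1 : ZMod p)) = 1 :=
    sign_of_pelt hp2 (n := 1) (by rw [pow_one, hadd])
  let c₁ : alternatingGroup (ZMod p ⊕ ZMod p) := ⟨Equiv.sumCongr (Equiv.addRight 1) 1, by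
    rw [Perm.mem_alternatingGroup, Perm.sign_sumCongr, hs, map_one, one_mul]⟩
  let c₂ : alternatingGroup (ZMod p ⊕ ZMod p) := ⟨Equiv.sumCongr 1 (Equiv.addRight 1), by
    rw [Perm.mem_alternatingGroup, Perm.sign_sumCongr, hs, map_one, one_mul]⟩
  let r : alternatingGroup (ZMod p ⊕ ZMod p) := ⟨Equiv.sumCongr (Equiv.neg _) (Equiv.neg _), by
    rw [Perm.mem_alternatingGroup, Perm.sign_sumCongr, Int.units_mul_self]⟩
  have hc₁ : ∀ (n : ℕ) (k : ZMod p), (c₁ ^ n).1 (.inl k) = .inl (k + n) ∧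
      (c₁ ^ n).1 (.inr k) = .inr k := by
    intro n k
    induction n with
    | zero => simp
    | succ n ih =>
      rw [pow_succ', Subgroup.coe_mul, Perm.mul_apply, Perm.mul_apply, ih.1, ih.2]
      simp [c₁, add_assoc]
  have hc₂ : ∀ (n : ℕ) (k : ZMod p), (c₂ ^ n).1 (.inl k) = .inl k ∧
      (c₂ ^ n).1 (.inr k) = .inr (k + n) := by
    intro n k
    induction n with
    | zero => simp
    | succ n ih =>
      rw [pow_succ', Subgroup.coe_mul, Perm.mul_apply, Perm.mul_apply, ih.1, ih.2]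
      simp [c₂, add_assoc]
  have hp₁ : c₁ ^ p ^ 1 = 1 := Subtype.ext (Equiv.ext fun x => by
    rcases x with k | k
    · rw [(hc₁ _ k).1]; simp
    · rw [(hc₁ _ k).2]; simp)
  have hp₂ : c₂ ^ p ^ 1 = 1 := Subtype.ext (Equiv.ext fun x => by
    rcases x with k | k
    · rw [(hc₂ _ k).1]; simp
    · rw [(hc₂ _ k).2]; simp)
  have h12 : c₂ * c₁ * c₂⁻¹ = c₁ := by
    rw [mul_inv_eq_iff_eq_mul]
    exact Subtype.ext (Equiv.ext fun x => by rcases x with k | k <;> simp [c₁, c₂])
  have hr1 : r * c₁ * r⁻¹ = c₁⁻¹ := by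
    rw [mul_inv_eq_iff_eq_mul, eq_inv_mul_iff_mul_eq]
    exact Subtype.ext (Equiv.ext fun x => by rcases x with k | k <;> simp [c₁, r])
  have hr2 : r * c₂ * r⁻¹ = c₂⁻¹ := by
    rw [mul_inv_eq_iff_eq_mul, eq_inv_mul_iff_mul_eq]
    exact Subtype.ext (Equiv.ext fun x => by rcases x with k | k <;> simp [c₂, r])
  have hrr : r ^ 2 = 1 :=
    Subtype.ext (Equiv.ext fun x => by rcases x with k | k <;> simp [r, pow_two])
  let Q₀ : Subgroup (alternatingGroup (ZMod p ⊕ ZMod p)) := Subgroup.closure {c₁, c₂}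
  have m₁ : c₁ ∈ Q₀ := Subgroup.subset_closure (by simp)
  have m₂ : c₂ ∈ Q₀ := Subgroup.subset_closure (by simp)
  have hQ₀ : IsPGroup p Q₀ := by
    have h1 : IsPGroup p (Subgroup.zpowers c₁ ⊔ Subgroup.zpowers c₂ : Subgroup _) := by
      refine IsPGroup.to_sup_of_normal_left' (isPGroup_zpowers_of_pow hp₁)
        (isPGroup_zpowers_of_pow hp₂) ?_
      rw [Subgroup.zpowers_le, Subgroup.zpowers_eq_closure]
      refine mem_normalizer_closure ?_
      rintro _ rfl
      rw [h12]
      exact Subgroup.subset_closure rfl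
    refine h1.to_le ?_
    rw [Subgroup.closure_le]
    rintro _ (rfl | rfl)
    · exact Subgroup.mem_sup_left (Subgroup.mem_zpowers _)
    · exact Subgroup.mem_sup_right (Subgroup.mem_zpowers _)
  have hrN : r ∈ Subgroup.normalizer (Q₀ : Set (alternatingGroup (ZMod p ⊕ ZMod p))) := by
    refine mem_normalizer_closure ?_
    rintro _ (rfl | rfl)
    · rw [hr1]; exact inv_mem m₁
    · rw [hr2]; exact inv_mem m₂
  have hmove : ∀ g : alternatingGroup (ZMod p ⊕ ZMod p), ∀ x, (altEmb ι g).1 x ≠ x →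
      ∃ b, x = ι b ∧ g.1 b ≠ b := by
    intro g x hx
    by_cases hx' : x ∈ Set.range ι
    · obtain ⟨b, rfl⟩ := hx'
      refine ⟨b, rfl, fun hb => hx ?_⟩
      rw [altEmb_apply, hb]
    · exact absurd (altEmb_apply_of_notMem ι g hx') hx
  have hKD : ∀ g, altEmb ι g ∈ KK p D := fun g => mem_KK_of_fix h.pg fun x hx => by
    obtain ⟨b, rfl, -⟩ := hmove g x hx
    obtain ⟨d, hd, hdb⟩ := hι b
    exact h.exists_restrict hp2 hd hdb
  have hKQ : ∀ g, altEmb ι g ∈ KK p (Q₀.map (altEmb ι)) := fun g =>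
    mem_KK_of_fix (hQ₀.map _) fun x hx => by
      obtain ⟨b, rfl, -⟩ := hmove g x hx
      rcases b with k | k
      · refine ⟨altEmb ι c₁, ⟨c₁, m₁, rfl⟩, ?_, fun w hw => ?_⟩
        · rw [altEmb_apply]
          simp [c₁]
        · obtain ⟨b, rfl, hb⟩ := hmove _ w hw
          rcases b with j | j
          · refine ⟨altEmb ι (c₁ ^ (j - k).val), ⟨_, pow_mem m₁ _, rfl⟩, ?_⟩
            rw [altEmb_apply, (hc₁ _ k).1]
            simp
          · simp [c₁] at hb
      · refine ⟨altEmb ι c₂, ⟨c₂, m₂, rfl⟩, ?_, fun w hw => ?_⟩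
        · rw [altEmb_apply]
          simp [c₂]
        · obtain ⟨b, rfl, hb⟩ := hmove _ w hw
          rcases b with j | j
          · simp [c₂] at hb
          · refine ⟨altEmb ι (c₂ ^ (j - k).val), ⟨_, pow_mem m₂ _, rfl⟩, ?_⟩
            rw [altEmb_apply, (hc₂ _ k).2]
            simp
  have hrK : altEmb ι r ∈ ⁅KK p (Q₀.map (altEmb ι)), KK p (Q₀.map (altEmb ι))⁆ := by
    have h1 : r ∈ commutator (alternatingGroup (ZMod p ⊕ ZMod p)) := by
      rw [commutator_alternatingGroup_eq_top (by simp; omega)]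
      trivial
    have h2 : (altEmb ι).range ≤ KK p (Q₀.map (altEmb ι)) := by
      rintro _ ⟨g, rfl⟩
      exact hKQ g
    refine Subgroup.commutator_mono h2 h2 ?_
    rw [← map_commutator_eq]
    exact ⟨r, h1, rfl⟩
  have hreg : ¬ p ∣ orderOf (altEmb ι r) := fun hd =>
    hp2 ((Nat.prime_dvd_prime_iff_eq hp.out Nat.prime_two).1 (hd.trans
      (orderOf_dvd_of_pow_eq_one (by rw [← map_pow, hrr, map_one]))))
  have h3 := h.fus' (hQ₀.map _) (by rintro _ ⟨g, -, rfl⟩; exact hKD g) (map_mem_normalizer hrN)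
    hrK hreg
  have h4 := congrArg (fun g : alternatingGroup α => g.1 (ι (.inl 0)))
    (Subgroup.mem_centralizer_iff.1 h3 _ ⟨c₁, m₁, rfl⟩)
  simp only [← map_mul, altEmb_apply] at h4
  have h5 := ι.injective h4
  simp only [c₁, r, Subgroup.coe_mul, Perm.mul_apply, Equiv.sumCongr_apply, Sum.map_inl,
    Equiv.neg_apply, Equiv.coe_addRight, neg_zero, zero_add, Sum.inl.injEq] at h5
  have h6 : ((2 : ℕ) : ZMod p) = 0 := by
    rw [Nat.cast_ofNat]
    linear_combination h5
  rw [ZMod.natCast_eq_zero_iff] at h6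
  exact hp2 ((Nat.prime_dvd_prime_iff_eq hp.out Nat.prime_two).1 h6)

theorem Loc.isCyclic_alt (hp2 : p ≠ 2) {D : Subgroup (alternatingGroup α)}
    (h : Loc p (alternatingGroup α) D) : IsCyclic D := by
  classical
  let S : α → Prop := fun x => ∃ d ∈ D, (d : alternatingGroup α).1 x ≠ x
  have hS : Fintype.card (Subtype S) < 2 * p := by
    by_contra hc
    obtain ⟨ι⟩ := Function.Embedding.nonempty_of_card_le (α := ZMod p ⊕ ZMod p) (β := Subtype S)
      (by simp only [Fintype.card_sum, ZMod.card]; omega)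
    exact h.not_embedding hp2 (ι.trans (Function.Embedding.subtype S)) fun b => (ι b).2
  have h1 : D.map (alternatingGroup α).subtype ≤ (Perm.ofSubtype (p := S)).range := by
    rintro _ ⟨d, hd, rfl⟩
    rw [Perm.mem_range_ofSubtype_iff]
    intro x hx
    exact ⟨d, hd, Perm.mem_support.1 hx⟩
  have h2 : Nat.card D ∣ (Fintype.card (Subtype S)).factorial := by
    rw [← Subgroup.card_map_of_injective (alternatingGroup α).subtype_injective,
      ← Fintype.card_perm, ← Nat.card_eq_fintype_card]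
    exact (Subgroup.card_dvd_of_le h1).trans (Subgroup.card_range_dvd _)
  obtain ⟨n, hn⟩ := h.pg.exists_card_eq
  have h3 : n ≤ 1 := by
    rw [hn, hp.out.pow_dvd_factorial_iff (b := 2) (Nat.log_lt_of_lt_pow' two_ne_zero (by
      have := hp.out.two_le
      nlinarith))] at h2
    simp only [Nat.Ico_succ_singleton, Finset.sum_singleton, pow_one] at h2
    have h4 : Fintype.card (Subtype S) / p < 2 := Nat.div_lt_of_lt_mul (by omega)
    omega
  refine isCyclic_of_card_dvd_prime (p := p) ?_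
  rw [hn]
  simpa using pow_dvd_pow p h3

theorem row_alt (hp2 : p ≠ 2) : Row.{u} p (alternatingGroup α) :=
  Row.of_cyclic fun _ h => h.isCyclic_alt hp2

end

end Cfsg.Agent.BHZ.Nil
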