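import Mathlib.GroupTheory.Sylow
import Mathlib.GroupTheory.Commutator.Basic

/-!
# Central extensions with kernel of order prime to `p`

`π : G →* X` with central kernel of order prime to `p`: lifting of `p`-subgroups, of
`p`-regular elements, of centralizers and normalizers.
-/

set_option autoImplicit false

namespace Cfsg.Agent.BHZ.Nil

open scoped commutatorElement

/-- The kernel of `π` is central of order prime to `p`. -/
structure CentPP (p : ℕ) {G X : Type*} [Group G] [Group X] (π : G →* X) : Prop where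
  cent : π.ker ≤ Subgroup.center G
  cop : ¬ p ∣ Nat.card π.ker

section

variable {p : ℕ} [hp : Fact p.Prime] {G X : Type*} [Group G] [Group X] [Finite G] {π : G →* X}

omit hp [Finite G] in
theorem CentPP.comm (h : CentPP p π) {z : G} (hz : π z = 1) (g : G) : g * z = z * g :=
  Subgroup.mem_center_iff.1 (h.cent (MonoidHom.mem_ker.2 hz)) g

omit [Finite G] in
/-- An element of the kernel killed by a power of `p` is trivial. -/
theorem CentPP.eq_one (h : CentPP p π) {z : G} (hz : π z = 1) {n : ℕ} (hn : z ^ p ^ n = 1) :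
    z = 1 := by
  have h1 : orderOf z ∣ Nat.card π.ker := by
    have := orderOf_dvd_natCard (⟨z, MonoidHom.mem_ker.2 hz⟩ : π.ker)
    rwa [← Subgroup.orderOf_coe] at this
  have h2 : orderOf z ∣ p ^ n := orderOf_dvd_of_pow_eq_one hn
  obtain ⟨k, -, hk⟩ := (Nat.dvd_prime_pow hp.out).1 h2
  rcases k with _ | k
  · exact orderOf_eq_one_iff.1 (by simpa using hk)
  · exact absurd ((Dvd.intro _ (pow_succ' p k).symm).trans (hk ▸ h1)) h.cop

omit hp [Finite G] in
/-- If `π a` and `π b` commute then `a b = c b a` with `c` in the kernel. -/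
theorem CentPP.comm_ker {a b : G} (hab : π a * π b = π b * π a) : π ⁅a, b⁆ = 1 := by
  rw [commutatorElement_def, map_mul, map_mul, map_mul, map_inv, map_inv, hab]
  group

omit hp [Finite G] in
theorem CentPP.conj_pow (h : CentPP p π) {a b : G} (hab : π a * π b = π b * π a) (n : ℕ) :
    a ^ n * b * (a ^ n)⁻¹ = ⁅a, b⁆ ^ n * b := by
  have hc := h.comm (CentPP.comm_ker hab)
  have h1 : a * b * a⁻¹ = ⁅a, b⁆ * b := by rw [commutatorElement_def]; group
  induction n with
  | zero => simp
  | succ n ih =>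
    have hcn : a * ⁅a, b⁆ ^ n = ⁅a, b⁆ ^ n * a :=
      (Commute.pow_right (show Commute a ⁅a, b⁆ from hc a) n).eq
    calc a ^ (n + 1) * b * (a ^ (n + 1))⁻¹ = a * (a ^ n * b * (a ^ n)⁻¹) * a⁻¹ := by
          rw [pow_succ']; group
      _ = (a * ⁅a, b⁆ ^ n) * b * a⁻¹ := by rw [ih]; group
      _ = ⁅a, b⁆ ^ n * (a * b * a⁻¹) := by rw [hcn]; group
      _ = ⁅a, b⁆ ^ (n + 1) * b := by rw [h1, pow_succ]; group

omit [Finite G] in
/-- A `p`-element commutes with every element whose image commutes with its image. -/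
theorem CentPP.comm_of_pelt (h : CentPP p π) {a b : G} {n : ℕ} (ha : a ^ p ^ n = 1)
    (hab : π a * π b = π b * π a) : a * b = b * a := by
  have h1 := h.conj_pow hab (p ^ n)
  rw [ha] at h1
  have h2 : ⁅a, b⁆ ^ p ^ n = 1 := by
    have : ⁅a, b⁆ ^ p ^ n * b = 1 * b := by rw [← h1]; simp
    exact mul_right_cancel this
  exact commutatorElement_eq_one_iff_mul_comm.1 (h.eq_one (CentPP.comm_ker hab) h2)

omit [Finite G] in
/-- `p`-regular elements lift to `p`-regular elements. -/
theorem CentPP.reg_of_map (h : CentPP p π) {g : G} (hg : ¬ p ∣ orderOf (π g)) :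
    ¬ p ∣ orderOf g := by
  intro hd
  have h1 : π (g ^ orderOf (π g)) = 1 := by rw [map_pow, pow_orderOf_eq_one]
  have h2 : (g ^ orderOf (π g)) ^ Nat.card π.ker = 1 := by
    have := pow_card_eq_one' (x := (⟨_, MonoidHom.mem_ker.2 h1⟩ : π.ker))
    exact congrArg Subtype.val this
  rw [← pow_mul] at h2
  rcases (Nat.Prime.dvd_mul hp.out).1 (hd.trans (orderOf_dvd_of_pow_eq_one h2)) with h3 | h3
  · exact hg h3
  · exact h.cop h3

omit hp [Finite G] in
theorem reg_map {g : G} (hg : ¬ p ∣ orderOf g) : ¬ p ∣ orderOf (π g) :=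
  fun hd => hg (hd.trans (orderOf_map_dvd π g))

omit [Finite G] in
/-- A `p`-element whose image lies in the image of a `p`-subgroup lies in it. -/
theorem CentPP.mem_of_pelt (h : CentPP p π) {P : Subgroup G} (hP : IsPGroup p P) {a : G} {n : ℕ}
    (ha : a ^ p ^ n = 1) (hm : π a ∈ P.map π) : a ∈ P := by
  obtain ⟨k, hk, hka⟩ := hm
  obtain ⟨m, hm⟩ := hP ⟨k, hk⟩
  have hm' : k ^ p ^ m = 1 := congrArg Subtype.val hm
  have hz : π (k⁻¹ * a) = 1 := by rw [map_mul, map_inv, hka, inv_mul_cancel]
  have hc : Commute k⁻¹ a := by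
    have h1 := h.comm hz k
    have h2 : k * a = a * k := by
      have h3 : k * (k⁻¹ * a) = a := by group
      rw [h3] at h1
      calc k * a = k * (k⁻¹ * a * k) := by rw [← h1]
        _ = a * k := by group
    exact Commute.inv_left h2
  have h1 : (k⁻¹ * a) ^ p ^ (n + m) = 1 := by
    rw [hc.mul_pow, inv_pow, pow_add, mul_comm (p ^ n), pow_mul k, hm', one_pow, mul_comm (p ^ m),
      pow_mul, ha, one_pow, inv_one, one_mul]
  have h2 := h.eq_one hz h1
  have h3 : a = k := by rw [← inv_mul_eq_one.1 h2]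
  exact h3 ▸ hk

omit [Finite G] in
theorem CentPP.le_of_map_le (h : CentPP p π) {P Q : Subgroup G} (hP : IsPGroup p P)
    (hQ : IsPGroup p Q) (hle : Q.map π ≤ P.map π) : Q ≤ P := by
  intro a ha
  obtain ⟨n, hn⟩ := hQ ⟨a, ha⟩
  exact h.mem_of_pelt hP (congrArg Subtype.val hn) (hle ⟨a, ha, rfl⟩)

/-- The normalizer of a `p`-subgroup is the preimage of the normalizer of its image. -/
theorem CentPP.mem_normalizer (h : CentPP p π) {P : Subgroup G} (hP : IsPGroup p P) {x : G}
    (hx : π x ∈ Subgroup.normalizer ((P.map π : Subgroup X) : Set X)) :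
    x ∈ Subgroup.normalizer (P : Set G) := by
  refine Subgroup.mem_normalizer_fintype fun k hk => ?_
  obtain ⟨n, hn⟩ := hP ⟨k, hk⟩
  have hn' : k ^ p ^ n = 1 := congrArg Subtype.val hn
  refine h.mem_of_pelt hP (n := n) ?_ ?_
  · rw [_root_.conj_pow, hn']; group
  · rw [map_mul, map_mul, map_inv]
    exact (Subgroup.mem_normalizer_iff.1 hx (π k)).1 ⟨k, hk, rfl⟩

omit hp [Finite G] in
theorem map_mem_normalizer {P : Subgroup G} {x : G}
    (hx : x ∈ Subgroup.normalizer (P : Set G)) :
    π x ∈ Subgroup.normalizer ((P.map π : Subgroup X) : Set X) :=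
  Subgroup.le_normalizer_map π ⟨x, hx, rfl⟩

omit [Finite G] in
/-- The centralizer of a `p`-subgroup is the preimage of the centralizer of its image. -/
theorem CentPP.mem_centralizer (h : CentPP p π) {P : Subgroup G} (hP : IsPGroup p P) {x : G}
    (hx : π x ∈ Subgroup.centralizer ((P.map π : Subgroup X) : Set X)) :
    x ∈ Subgroup.centralizer (P : Set G) := by
  refine Subgroup.mem_centralizer_iff.2 fun k hk => ?_
  obtain ⟨n, hn⟩ := hP ⟨k, hk⟩
  exact h.comm_of_pelt (congrArg Subtype.val hn)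
    (Subgroup.mem_centralizer_iff.1 hx (π k) ⟨k, hk, rfl⟩)

omit hp [Finite G] in
theorem map_mem_centralizer {P : Subgroup G} {x : G}
    (hx : x ∈ Subgroup.centralizer (P : Set G)) :
    π x ∈ Subgroup.centralizer ((P.map π : Subgroup X) : Set X) := by
  refine Subgroup.mem_centralizer_iff.2 ?_
  rintro _ ⟨k, hk, rfl⟩
  rw [← map_mul, ← map_mul, Subgroup.mem_centralizer_iff.1 hx k hk]

/-- Lifting of `p`-subgroups along a surjection, above a given `p`-subgroup. -/
theorem exists_lift_pgroup (hπ : Function.Surjective π) {D : Subgroup G} (hD : IsPGroup p D)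
    {P : Subgroup X} (hP : IsPGroup p P) (hle : D.map π ≤ P) :
    ∃ P' : Subgroup G, IsPGroup p P' ∧ D ≤ P' ∧ P'.map π = P := by
  have hDle : D ≤ P.comap π := Subgroup.map_le_iff_le_comap.1 hle
  obtain ⟨S, hS⟩ := (hD.comap_of_injective (P.comap π).subtype
    (P.comap π).subtype_injective).exists_le_sylow
  let f : P.comap π →* P := (π.comp (P.comap π).subtype).codRestrict P (fun x => x.2)
  have hf : Function.Surjective f := by
    rintro ⟨y, hy⟩
    obtain ⟨x, rfl⟩ := hπ y
    exact ⟨⟨x, hy⟩, rfl⟩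
  have : Finite X := Finite.of_surjective π hπ
  have htop : ((S.mapSurjective hf : Sylow p P) : Subgroup P) = ⊤ :=
    ((S.mapSurjective hf).is_maximal' (hP.to_subgroup ⊤) le_top).symm
  refine ⟨(S : Subgroup (P.comap π)).map (P.comap π).subtype, S.isPGroup'.map _, ?_, ?_⟩
  · intro d hd
    exact ⟨⟨d, hDle hd⟩, hS hd, rfl⟩
  · apply le_antisymm
    · rintro _ ⟨_, ⟨x, -, rfl⟩, rfl⟩
      exact x.2
    · intro y hy
      have h1 : (⟨y, hy⟩ : P) ∈ ((S.mapSurjective hf : Sylow p P) : Subgroup P) := by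
        rw [htop]; trivial
      obtain ⟨x, hx, hxy⟩ := h1
      exact ⟨x, ⟨x, hx, rfl⟩, congrArg Subtype.val hxy⟩

omit hp [Finite G] in
/-- If the image of `K` centralizes the image of `y`, then `⁅K, K⁆` centralizes `y`. -/
theorem CentPP.commutator_le (h : CentPP p π) {K : Subgroup G} {y : G}
    (hK : ∀ k ∈ K, π k * π y = π y * π k) : ⁅K, K⁆ ≤ Subgroup.centralizer ({y} : Set G) := by
  refine Subgroup.commutator_le.2 fun a ha b hb => ?_
  have hca := h.comm (CentPP.comm_ker (hK a ha))
  have hcb := h.comm (CentPP.comm_ker (hK b hb))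
  have h1 : a * y = ⁅a, y⁆ * y * a := by rw [commutatorElement_def]; group
  have h2 : b * y = ⁅b, y⁆ * y * b := by rw [commutatorElement_def]; group
  generalize ⁅a, y⁆ = c at hca h1
  generalize ⁅b, y⁆ = d at hcb h2
  rw [Subgroup.mem_centralizer_singleton_iff, commutatorElement_def]
  have h3 : a * b * y = c * d * y * (a * b) := by
    calc a * b * y = a * (d * y * b) := by rw [mul_assoc, h2]
      _ = (a * d) * y * b := by group
      _ = d * (a * y) * b := by rw [hcb a]; group
      _ = (d * c) * y * (a * b) := by rw [h1]; group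
      _ = c * d * y * (a * b) := by rw [hca d]
  have h4 : b * a * y = c * d * y * (b * a) := by
    calc b * a * y = b * (c * y * a) := by rw [mul_assoc, h1]
      _ = (b * c) * y * a := by group
      _ = c * (b * y) * a := by rw [hca b]; group
      _ = c * d * y * (b * a) := by rw [h2]; group
  have h5 : (b * a)⁻¹ * y = (c * d)⁻¹ * y * (b * a)⁻¹ := by
    have hcd : ∀ g : G, g * (c * d) = c * d * g := fun g => by
      rw [← mul_assoc, hca g, mul_assoc, hcb g, mul_assoc]
    have h6 : y = (b * a)⁻¹ * (c * d) * y * (b * a) := by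
      calc y = (b * a)⁻¹ * (b * a * y) := by group
        _ = _ := by rw [h4]; group
    rw [hcd] at h6
    calc (b * a)⁻¹ * y = (c * d)⁻¹ * (c * d * (b * a)⁻¹ * y * (b * a)) * (b * a)⁻¹ := by group
      _ = _ := by rw [← h6]
  have hcd' : ∀ g : G, g * (c * d)⁻¹ = (c * d)⁻¹ * g := fun g => by
    have hcd : g * (c * d) = c * d * g := by
      rw [← mul_assoc, hca g, mul_assoc, hcb g, mul_assoc]
    exact (Commute.inv_right hcd).eq
  calc a * b * a⁻¹ * b⁻¹ * y = a * b * ((b * a)⁻¹ * y) := by group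
    _ = (a * b * (c * d)⁻¹) * y * (b * a)⁻¹ := by rw [h5]; group
    _ = (c * d)⁻¹ * (a * b * y) * (b * a)⁻¹ := by rw [hcd']; group
    _ = y * (a * b * a⁻¹ * b⁻¹) := by rw [h3]; group

end

end Cfsg.Agent.BHZ.Nil
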