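import Cfsg.Agent.BHZ.Nil.ClForm
import Cfsg.Agent.BHZ.Nil.Alt
import Cfsg.Agent.S2086
import Cfsg.Agent.S2087
import Cfsg.Agent.S2088
import Cfsg.Agent.S2089
import Cfsg.Agent.S2090
import Cfsg.Agent.S2091
import Cfsg.Agent.S2092
import Cfsg.Agent.S2093
import Cfsg.Agent.S2094
import Cfsg.Agent.S2095
import Cfsg.Agent.S2096
import Cfsg.Agent.S2097
import Cfsg.Agent.S2098
import Cfsg.Agent.S2099
import Cfsg.Agent.S0252
import Cfsg.Agent.S0254
import Cfsg.Agent.S0256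
import Cfsg.Agent.S0822
import Cfsg.Agent.S0248
import Cfsg.Agent.S0279
import Cfsg.Agent.S0280
import Cfsg.Agent.LieClassical.HermPerfect

/-!
# The rows of the classical groups in cross characteristic
-/

set_option autoImplicit false
set_option linter.unusedSectionVars false

namespace Cfsg.Agent.BHZ.Nil

open Cfsg

universe u

variable {p : ℕ} [hp : Fact p.Prime] {F : Type} [Field F] [Fintype F]

theorem locAb_SL (hp2 : p ≠ 2) (hF : (p : F) ≠ 0) (n : ℕ) :
    LocAb p (Matrix.SpecialLinearGroup (Fin n) F) := fun _ h => comm_SL hp2 hF h.pg h.fusK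

theorem locAb_SU (hp2 : p ≠ 2) (hF : (p : F) ≠ 0) (n : ℕ) {q : ℕ} (hq : Fintype.card F = q ^ 2) :
    LocAb p (SU n F q) := fun _ h =>
  comm_SU (by rw [Nat.card_eq_fintype_card, hq]) hp2 hF h.pg h.fusK

theorem locAb_Sp (hp2 : p ≠ 2) (hF : (p : F) ≠ 0) (m : ℕ) :
    LocAb p (Matrix.symplecticGroup (Fin m) F) := fun _ h => comm_Sp hp2 hF h.pg h.fusK

theorem locAb_Omega (hp2 : p ≠ 2) (hF : (p : F) ≠ 0) {ι : Type} [Fintype ι] [DecidableEq ι]
    {Q : (ι → F) → F} (hQ : ∃ Q' : QuadraticMap F (ι → F) F, ⇑Q' = Q) : LocAb p (Omega F Q) :=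
  fun _ h => comm_Omega' hQ hp2 hF h.pg h.fusK

theorem not_dvd_of_dvd_two_pow (hp2 : p ≠ 2) {n k : ℕ} (h : n ∣ 2 ^ k) : ¬ p ∣ n := fun hd =>
  hp2 ((Nat.prime_dvd_prime_iff_eq hp.out Nat.prime_two).1 (hp.out.dvd_of_dvd_pow (hd.trans h)))

theorem not_mul_dvd {n : ℕ} (hn : n ≠ 0) : ¬ p * n ∣ n := fun h => by
  have h1 := Nat.le_of_dvd (Nat.pos_of_ne_zero hn) h
  have h2 := hp.out.two_le
  have h3 := Nat.pos_of_ne_zero hn
  nlinarith

theorem not_dvd_card (hF : (p : F) ≠ 0) : ¬ p ∣ Fintype.card F := fun h => by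
  obtain ⟨r, hr, k, hk, hc⟩ := FiniteField.card' F
  rw [hc] at h
  have := (Nat.prime_dvd_prime_iff_eq hp.out hk).1 (hp.out.dvd_of_dvd_pow h)
  subst this
  exact hF (CharP.cast_eq_zero F p)

theorem card_mult_zmod (n : ℕ) : Nat.card (Multiplicative (ZMod n)) = n := by
  rw [Nat.card_congr Multiplicative.toAdd, Nat.card_zmod]

theorem row_PSL (hp2 : p ≠ 2) (hF : (p : F) ≠ 0) {n : ℕ} (hn : 2 ≤ n)
    (h4 : n = 2 → 4 ≤ Fintype.card F) :
    Row.{u} p (Matrix.ProjectiveSpecialLinearGroup (Fin n) F) := by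
  by_cases hexc : (n, Fintype.card F) ∈ ({(2, 4), (2, 9), (3, 2), (3, 4), (4, 2)} : Set (ℕ × ℕ))
  · simp only [Set.mem_insert_iff, Set.mem_singleton_iff, Prod.mk.injEq] at hexc
    rcases hexc with ⟨rfl, h⟩ | ⟨rfl, h⟩ | ⟨rfl, h⟩ | ⟨rfl, h⟩ | ⟨rfl, h⟩
    · obtain ⟨e⟩ := S0252.result h
      exact Row.of_equiv e (row_alt hp2)
    · obtain ⟨e⟩ := S0254.result h
      exact Row.of_equiv e (row_alt hp2)
    · exact Row.of_cyclic_mult (S2087.result h) (not_dvd_of_dvd_two_pow hp2 (k := 1) dvd_rfl)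
        (locAb_SL hp2 hF 3).quotient_center
    · refine Row.of_cover_center (S2088.result h) (S0248.result 3 le_rfl) ?_ (locAb_SL hp2 hF 3)
      rw [S0280.card_center_SL (by norm_num), h, Nat.card_congr Multiplicative.toAdd]
      simp only [Nat.card_prod, Nat.card_zmod]
      intro hd
      exact not_dvd_of_dvd_two_pow hp2 (k := 4) dvd_rfl
        (Nat.dvd_of_mul_dvd_mul_right (by norm_num : 0 < 3) hd)
    · obtain ⟨e⟩ := S0256.result h
      exact Row.of_equiv e (row_alt hp2)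
  · have hA := S2086.result rfl n hn h4 hexc
    rcases hn.eq_or_lt with rfl | h3
    · exact Row.of_cyclic_mult hA
        (not_dvd_of_dvd_two_pow hp2 (k := 1) (Nat.gcd_dvd_left _ _))
        (locAb_SL hp2 hF 2).quotient_center
    · refine Row.of_cover_center hA (S0248.result n h3) ?_ (locAb_SL hp2 hF n)
      rw [S0280.card_center_SL (by omega), card_mult_zmod]
      exact not_mul_dvd (Nat.gcd_ne_zero_left (by omega))

theorem row_PSp (hp2 : p ≠ 2) (hF : (p : F) ≠ 0) {m : ℕ} (hm : 2 ≤ m)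
    (h3 : m = 2 → 3 ≤ Fintype.card F) : Row.{u} p (PSp m F) := by
  by_cases hexc : m = 3 ∧ Fintype.card F = 2
  · obtain ⟨rfl, h⟩ := hexc
    exact Row.of_cyclic_mult (S2093.result h) (not_dvd_of_dvd_two_pow hp2 (k := 1) dvd_rfl)
      (locAb_Sp hp2 hF 3).quotient_center
  · exact Row.of_cyclic_mult (S2092.result rfl m hm h3 hexc)
      (not_dvd_of_dvd_two_pow hp2 (k := 1) (Nat.gcd_dvd_left _ _))
      (locAb_Sp hp2 hF m).quotient_center

theorem row_PSU (hp2 : p ≠ 2) (hF : (p : F) ≠ 0) {n q : ℕ} (hq : Fintype.card F = q ^ 2)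
    (hn : 3 ≤ n) (h32 : ¬ (n = 3 ∧ q = 2)) : Row.{u} p (PSU n F q) := by
  have hperf := LieClassical.HermPerfect.commutator_SU_eq_top hq hn h32
  by_cases hexc : (n, q) ∈ ({(4, 2), (4, 3), (6, 2)} : Set (ℕ × ℕ))
  · simp only [Set.mem_insert_iff, Set.mem_singleton_iff, Prod.mk.injEq] at hexc
    rcases hexc with ⟨rfl, rfl⟩ | ⟨rfl, rfl⟩ | ⟨rfl, rfl⟩
    · have : Fact (Nat.Prime 3) := ⟨Nat.prime_three⟩
      obtain ⟨e⟩ := S0822.result (F := F) (K := ZMod 3) hq (by simp)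
      refine Row.of_equiv e (Row.of_cyclic_mult
        (S2092.result (F := ZMod 3) (q := 3) (by simp) 2 le_rfl (fun _ => le_rfl) (by norm_num))
        (not_dvd_of_dvd_two_pow hp2 (k := 1) (Nat.gcd_dvd_left _ _)) ?_)
      exact LocAb.of_equiv e.symm (locAb_SU hp2 hF 4 hq).quotient_center
    · refine Row.of_mult (S2090.result hq) ?_ (locAb_SU hp2 hF 4 hq).quotient_center
      rw [Nat.card_congr Multiplicative.toAdd]
      simp only [Nat.card_prod, Nat.card_zmod]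
      intro hd
      rcases (Nat.Prime.dvd_mul hp.out).1 hd with h | h
      · exact not_dvd_of_dvd_two_pow hp2 (k := 2) dvd_rfl h
      · exact not_dvd_card hF (hq ▸ h)
    · refine Row.of_cover_center (S2091.result hq) hperf ?_ (locAb_SU hp2 hF 6 hq)
      rw [S0279.result hq 6 hn, Nat.card_congr Multiplicative.toAdd]
      simp only [Nat.card_prod, Nat.card_zmod]
      intro hd
      exact not_dvd_of_dvd_two_pow hp2 (k := 2) dvd_rfl
        (Nat.dvd_of_mul_dvd_mul_right (by norm_num : 0 < 3) hd)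
  · refine Row.of_cover_center (S2089.result n q hq hn h32 hexc) hperf ?_ (locAb_SU hp2 hF n hq)
    rw [S0279.result hq n hn, card_mult_zmod]
    exact not_mul_dvd (Nat.gcd_ne_zero_left (by omega))

theorem row_POmegaOdd (hp2 : p ≠ 2) (hF : (p : F) ≠ 0) {m : ℕ} (hm : 3 ≤ m)
    (hq : Odd (Fintype.card F)) : Row.{u} p (POmega F (quadFormOdd m F)) := by
  have hL := (locAb_Omega hp2 hF (exists_quad_odd (F := F) m)).quotient_center
  by_cases hexc : m = 3 ∧ Fintype.card F = 3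
  · obtain ⟨rfl, h⟩ := hexc
    refine Row.of_cyclic_mult (S2095.result h) (fun hd => ?_) hL
    rcases (Nat.Prime.dvd_mul hp.out (m := 2) (n := 3)).1 hd with h' | h'
    · exact not_dvd_of_dvd_two_pow hp2 (k := 1) dvd_rfl h'
    · exact not_dvd_card hF (h ▸ h')
  · exact Row.of_cyclic_mult (S2094.result rfl hq m hm hexc)
      (not_dvd_of_dvd_two_pow hp2 (k := 1) dvd_rfl) hL

theorem row_POmegaPlus (hp2 : p ≠ 2) (hF : (p : F) ≠ 0) {m : ℕ} (hm : 4 ≤ m) :
    Row.{u} p (POmega F (quadFormPlus m F)) := by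
  have hL := (locAb_Omega hp2 hF (exists_quad_plus (F := F) m)).quotient_center
  rcases Nat.even_or_odd m with he | ho
  · by_cases hexc : m = 4 ∧ Fintype.card F = 2
    · obtain ⟨rfl, h⟩ := hexc
      refine Row.of_mult (S2098.result h) ?_ hL
      rw [Nat.card_congr Multiplicative.toAdd]
      simp only [Nat.card_prod, Nat.card_zmod]
      exact not_dvd_of_dvd_two_pow hp2 (k := 2) dvd_rfl
    · refine Row.of_mult (S2097.result rfl m hm he hexc) ?_ hL
      rw [Nat.card_congr Multiplicative.toAdd]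
      simp only [Nat.card_prod, Nat.card_zmod]
      exact not_dvd_of_dvd_two_pow hp2 (k := 2)
        (Nat.mul_dvd_mul (Nat.gcd_dvd_left _ _) (Nat.gcd_dvd_left _ _))
  · have h5 : 5 ≤ m := by
      obtain ⟨k, hk⟩ := ho
      omega
    exact Row.of_cyclic_mult (S2096.result rfl m h5 ho)
      (not_dvd_of_dvd_two_pow hp2 (k := 2) (Nat.gcd_dvd_left _ _)) hL

theorem row_POmegaMinus (hp2 : p ≠ 2) (hF : (p : F) ≠ 0) {m : ℕ} (hm : 4 ≤ m) {a b : F}
    (hab : ∀ z₁ z₂ : F, z₁ ^ 2 + a * z₁ * z₂ + b * z₂ ^ 2 = 0 → z₁ = 0 ∧ z₂ = 0) :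
    Row.{u} p (POmega F (quadFormMinus (m - 1) F a b)) :=
  Row.of_cyclic_mult (S2099.result rfl m hm a b hab)
    (not_dvd_of_dvd_two_pow hp2 (k := 2) (Nat.gcd_dvd_left _ _))
    (locAb_Omega hp2 hF (exists_quad_minus (F := F) (m - 1) a b)).quotient_center

end Cfsg.Agent.BHZ.Nil
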