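import Cfsg.Agent.BHZ.Nil.Block0
import Cfsg.Agent.H644.Maximal
import Cfsg.Agent.H665.NoPQ
import Cfsg.Agent.H672.Over
import Cfsg.Agent.H686.CharKit
import Cfsg.Agent.S4828

/-!
# Characters of defect zero coming from a defect group

* `dz_congr`, `dz_restrict`, `dz_of_inj` : transport of `HasDZ`;
* `dz_cent` : `C(D) / Z(D)` has a character of defect zero (the canonical character);
* `dz_of_block` : so has `N / (N ⊓ D)` for `N ≤ C(D)` normalized by `C(D)`.
-/

set_option autoImplicit false

namespace Cfsg.Agent.BHZ.Nil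

open Cfsg Cfsg.Agent.H665.NoPQ

section

variable {G H : Type*} [Group G] [Group H] {p : ℕ}

theorem dz_congr (e : G ≃* H) (h : HasDZ p G) : HasDZ p H := by
  obtain ⟨χ, hχ⟩ := h
  refine ⟨⟨_, Characters.Core.isIrr_comp e.symm.toMonoidHom e.symm.surjective χ.2⟩, ?_⟩
  have h1 : charDegree ((χ : G → ℂ) ∘ e.symm.toMonoidHom) = charDegree (χ : G → ℂ) := by
    rw [Blocks.Basic.charDegree_def, Blocks.Basic.charDegree_def]
    simp
  rw [h1, hχ, Nat.card_congr e.toEquiv]

theorem dz_restrict [Finite G] (N : Subgroup G) [N.Normal] (h : HasDZ p G) : HasDZ p N := by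
  obtain ⟨χ, hχ⟩ := h
  obtain ⟨θ, hθ, ho⟩ := H672.exists_under (f := N.subtype) χ.2
  obtain ⟨⟨a, ha⟩, hb⟩ := H672.charDegree_dvd_of_over N χ.2 hθ ho
  have h0 := Blocks.Basic.charDegree_pos χ.2
  have h1 := Blocks.Basic.charDegree_pos hθ
  rw [ha, Nat.mul_div_cancel_left _ h1] at hb
  have ha0 : a ≠ 0 := by
    rintro rfl
    omega
  have hN0 : N.index ≠ 0 := Subgroup.index_ne_zero_of_finite
  refine ⟨⟨θ, hθ⟩, le_antisymm ?_ ?_⟩
  · exact (Nat.factorization_le_iff_dvd h1.ne' Nat.card_pos.ne').2
      (Blocks.Knorr.charDegree_dvd hθ) p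
  · have h2 := (Nat.factorization_le_iff_dvd ha0 hN0).2 hb p
    rw [ha, Nat.factorization_mul h1.ne' ha0, Finsupp.add_apply, ← Subgroup.card_mul_index N,
      Nat.factorization_mul Nat.card_pos.ne' hN0, Finsupp.add_apply] at hχ
    show (Nat.card N).factorization p ≤ (charDegree θ).factorization p
    omega

theorem dz_of_inj [Finite G] (f : H →* G) (hf : Function.Injective f) (hn : f.range.Normal)
    (h : HasDZ p G) : HasDZ p H :=
  dz_congr (MonoidHom.ofInjective hf).symm (dz_restrict f.range h)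

/-- `f : N ↠ Y`, `g : N → X` with normal range and the same kernel. -/
theorem dz_of_ker {N X Y : Type*} [Group N] [Group X] [Group Y] [Finite X] (f : N →* Y) (g : N →* X)
    (hf : Function.Surjective f) (hk : f.ker = g.ker) (hn : g.range.Normal) (h : HasDZ p X) :
    HasDZ p Y :=
  dz_congr (((QuotientGroup.quotientKerEquivRange g).symm.trans
    (QuotientGroup.quotientMulEquivOfEq hk.symm)).trans
      (QuotientGroup.quotientKerEquivOfSurjective f hf)) (dz_restrict g.range h)

theorem normal_subgroupOf_centralizer (D : Subgroup G) :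
    (D.subgroupOf (Subgroup.centralizer (D : Set G))).Normal :=
  ⟨fun n hn g => by
    have h1 : (n : G) * g = g * n := Subgroup.mem_centralizer_iff.1 g.2 n hn
    have h2 : g * n * g⁻¹ = n := Subtype.ext (by
      show (g : G) * n * (g : G)⁻¹ = n
      rw [← h1, mul_inv_cancel_right])
    rwa [h2]⟩

end

section

variable {G : Type*} [Group G] [Finite G] {p : ℕ} [hp : Fact p.Prime] {M : Ideal AlgInt}

/-- The canonical character: any quotient of `C(D)` with kernel `Z(D)` has a character of defect
zero. -/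
theorem dz_cent (hM : IsPModular p M) {B : Set (IrrCharacter G)} (hB : IsPBlock M B)
    {D : Subgroup G} (hD : IsDefectGroup p M B D) {Y : Type*} [Group Y]
    (f : Subgroup.centralizer (D : Set G) →* Y) (hf : Function.Surjective f)
    (hk : f.ker = D.subgroupOf (Subgroup.centralizer (D : Set G))) : HasDZ p Y := by
  have hMp : M.IsPrime := hM.2.1.isPrime
  obtain ⟨e, he⟩ := H644.exists_pair_of_le_isDefectGroup hM hB hD le_rfl
  obtain ⟨θ, -, h1, h2, -⟩ := (S4828.result p M hM D e he.1).1
    ⟨B, H644.isMaximalBrauerPair_of_isDefectGroup hM he hD⟩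
  obtain ⟨ψ, hψ⟩ := H686.CharKit.exists_infl f.ker θ fun z hz => h1 z (by rwa [hk] at hz)
  refine dz_congr (QuotientGroup.quotientKerEquivOfSurjective f hf) ⟨ψ, ?_⟩
  have h3 : charDegree (θ : Subgroup.centralizer (D : Set G) → ℂ) =
      charDegree (ψ : Subgroup.centralizer (D : Set G) ⧸ f.ker → ℂ) := by
    rw [← hψ, Blocks.Basic.charDegree_def, Blocks.Basic.charDegree_def, H686.CharKit.infl_apply]
    rfl
  have h4 : Nat.card ↥(D ⊓ Subgroup.centralizer (D : Set G)) = Nat.card f.ker := by
    rw [hk, ← Subgroup.inf_subgroupOf_right]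
    exact (Nat.card_congr (Subgroup.subgroupOfEquivOfLe inf_le_right).toEquiv).symm
  rw [h3, h4, Subgroup.card_eq_card_quotient_mul_card_subgroup f.ker,
    Nat.factorization_mul Nat.card_pos.ne' Nat.card_pos.ne', Finsupp.add_apply] at h2
  omega

/-- `N ≤ C(D)` normalized by `C(D)`: the group `N / (N ⊓ D)` has a character of defect zero. -/
theorem dz_of_block (hM : IsPModular p M) {B : Set (IrrCharacter G)} (hB : IsPBlock M B)
    {D : Subgroup G} (hD : IsDefectGroup p M B D) {N : Subgroup G}
    (hN : N ≤ Subgroup.centralizer (D : Set G))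
    (hn : Subgroup.centralizer (D : Set G) ≤ Subgroup.normalizer (N : Set G))
    {Y : Type*} [Group Y] (f : N →* Y) (hf : Function.Surjective f)
    (hk : ∀ x : N, f x = 1 ↔ (x : G) ∈ D) : HasDZ p Y := by
  have := normal_subgroupOf_centralizer D
  have h0 := dz_cent hM hB hD (QuotientGroup.mk' (D.subgroupOf (Subgroup.centralizer (D : Set G))))
    (QuotientGroup.mk'_surjective _) (QuotientGroup.ker_mk' _)
  refine dz_of_ker f ((QuotientGroup.mk' _).comp (Subgroup.inclusion hN)) hf ?_ ?_ h0
  · ext x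
    rw [MonoidHom.mem_ker, MonoidHom.mem_ker, hk, MonoidHom.comp_apply, QuotientGroup.mk'_apply,
      QuotientGroup.eq_one_iff]
    rfl
  · rw [MonoidHom.range_comp, Subgroup.inclusion_range]
    exact ((Subgroup.normal_subgroupOf_iff_le_normalizer hN).2 hn).map _
      (QuotientGroup.mk'_surjective _)

end

end Cfsg.Agent.BHZ.Nil
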