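import Cfsg.Agent.BHZ.Nil.Iface
import Cfsg.Agent.H315.RatB0.SzRee

/-!
# S4806: the rows of the Suzuki groups and the small Ree groups (cyclic Sylow subgroups)
-/

set_option autoImplicit false

namespace Cfsg.Agent.BHZ.Nil

open Cfsg

universe u

theorem rowFor_sz : RowFor.{u} (fun _ S _ => Lie.IsoSuzuki S) := by
  intro p _ hp S _ _ _ _ h
  exact (Row.of_cyclic fun D hD => OddRank.SzTits.isCyclic_of_isPGroup h hp D hD.pg).brow

theorem rowFor_ree : RowFor.{u} (fun p S _ => p ≠ 3 ∧ Lie.IsoRee S) := by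
  rintro p hpp hp S _ _ _ _ ⟨hp3, h⟩
  have h3 : 3 < p := by
    have := hpp.out.two_le
    omega
  exact (Row.of_cyclic fun D hD => H315.RatB0.isCyclic_ree h h3 D hD.pg).brow

end Cfsg.Agent.BHZ.Nil
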