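import Cfsg.Agent.BHZ.Nil.SylCase
import Cfsg.Agent.H400.LieLocal
import Cfsg.Agent.H681.GmnLie

/-!
# The rows of the groups of Lie type in defining characteristic
-/

set_option autoImplicit false
set_option linter.unusedSectionVars false

namespace Cfsg.Agent.BHZ.Nil

open Cfsg

universe u

variable {p : ℕ} [hp : Fact p.Prime] {S : Type*} [Group S] [Finite S]

theorem commutator_eq_top_of_simple [IsSimpleGroup S] (hZ : Subgroup.center S = ⊥) :
    commutator S = ⊤ := by
  rcases IsSimpleGroup.eq_bot_or_eq_top_of_normal (commutator S) inferInstance with h | h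
  · exfalso
    rw [commutator_eq_bot_iff_center_eq_top, hZ] at h
    exact bot_ne_top h
  · exact h

theorem eq_bot_defchar (hp2 : p ≠ 2) (hS : IsLieTypeChar p S) (hZ : Subgroup.center S = ⊥)
    {D : Subgroup S} (h : Loc p S D) : D = ⊥ := by
  have hs := H400.LieSimple.isSimple_of_lie hS
  by_contra hD
  have h1 := h.centralizer_le_of_char
    (H400.LieLocal.local_char_of_lie hS (fun h => hp2 h.1) D h.pg hD)
  refine hD (h.eq_bot_of_goal (KK_eq_top_of_le h.pg h1) (commutator_eq_top_of_simple hZ) hZ ?_)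
  rcases H681.GmnLie.rowS_lie hp2 hZ hS with h2 | ⟨h3, F, _, _, _, -, -, e⟩
  · exact Or.inl h2
  · exact Or.inr ⟨h3, F, inferInstance, inferInstance, e⟩

theorem row_defchar (hp2 : p ≠ 2) (hS : IsLieTypeChar p S) (hZ : Subgroup.center S = ⊥) :
    Row.{u} p S :=
  Row.of_cyclic fun _ h => by
    rw [eq_bot_defchar hp2 hS hZ h]
    infer_instance

end Cfsg.Agent.BHZ.Nil
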