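import Cfsg.Agent.BHZ.Nil.Iface
import Cfsg.Agent.BHZ.Nil.ClRows
import Cfsg.Agent.BHZ.Nil.DefChar

/-!
# S4806: the rows of the alternating groups, the classical groups and the defining characteristic
-/

set_option autoImplicit false

namespace Cfsg.Agent.BHZ.Nil

open Cfsg

universe u

theorem center_eq_bot_of_simple {S : Type*} [Group S] [IsSimpleGroup S]
    (hS : ¬ IsMulCommutative S) : Subgroup.center S = ⊥ := by
  rcases (inferInstance : (Subgroup.center S).Normal).eq_bot_or_eq_top with h | h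
  · exact h
  · refine absurd ⟨⟨fun a b => ?_⟩⟩ hS
    have : b ∈ Subgroup.center S := h ▸ Subgroup.mem_top b
    exact Subgroup.mem_center_iff.1 this a

theorem rowFor_alt : RowFor.{u} (fun _ S _ => IsAlternating S) := by
  rintro p _ hp S _ _ _ _ ⟨n, -, ⟨e⟩⟩
  exact (Row.of_equiv e (row_alt hp)).brow

theorem rowFor_lie : RowFor.{u} (fun p S _ => IsLieTypeChar p S) := by
  intro p _ hp S _ _ _ hS h
  exact (row_defchar hp h (center_eq_bot_of_simple hS)).brow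

theorem rowFor_psl : RowFor.{u} (fun p S _ => ∃ (F : Type) (_ : Field F) (_ : Fintype F) (n : ℕ),
    (p : F) ≠ 0 ∧ 2 ≤ n ∧ (n = 2 → 4 ≤ Fintype.card F) ∧
    Nonempty (S ≃* Matrix.ProjectiveSpecialLinearGroup (Fin n) F)) := by
  rintro p _ hp S _ _ _ _ ⟨F, _, _, n, hF, hn, h4, ⟨e⟩⟩
  exact (Row.of_equiv e (row_PSL hp hF hn h4)).brow

theorem rowFor_psp : RowFor.{u} (fun p S _ => ∃ (F : Type) (_ : Field F) (_ : Fintype F) (m : ℕ),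
    (p : F) ≠ 0 ∧ 2 ≤ m ∧ (m = 2 → 3 ≤ Fintype.card F) ∧ Nonempty (S ≃* PSp m F)) := by
  rintro p _ hp S _ _ _ _ ⟨F, _, _, m, hF, hm, h3, ⟨e⟩⟩
  exact (Row.of_equiv e (row_PSp hp hF hm h3)).brow

theorem rowFor_psu : RowFor.{u} (fun p S _ => ∃ (F : Type) (_ : Field F) (_ : Fintype F) (n q : ℕ),
    (p : F) ≠ 0 ∧ Fintype.card F = q ^ 2 ∧ 3 ≤ n ∧ ¬ (n = 3 ∧ q = 2) ∧
    Nonempty (S ≃* PSU n F q)) := by
  rintro p _ hp S _ _ _ _ ⟨F, _, _, n, q, hF, hq, hn, h32, ⟨e⟩⟩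
  exact (Row.of_equiv e (row_PSU hp hF hq hn h32)).brow

theorem rowFor_oodd : RowFor.{u} (fun p S _ => ∃ (F : Type) (_ : Field F) (_ : Fintype F) (m : ℕ),
    (p : F) ≠ 0 ∧ 3 ≤ m ∧ Odd (Fintype.card F) ∧ Nonempty (S ≃* POmega F (quadFormOdd m F))) := by
  rintro p _ hp S _ _ _ _ ⟨F, _, _, m, hF, hm, hq, ⟨e⟩⟩
  exact (Row.of_equiv e (row_POmegaOdd hp hF hm hq)).brow

theorem rowFor_oplus : RowFor.{u} (fun p S _ => ∃ (F : Type) (_ : Field F) (_ : Fintype F) (m : ℕ),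
    (p : F) ≠ 0 ∧ 4 ≤ m ∧ Nonempty (S ≃* POmega F (quadFormPlus m F))) := by
  rintro p _ hp S _ _ _ _ ⟨F, _, _, m, hF, hm, ⟨e⟩⟩
  exact (Row.of_equiv e (row_POmegaPlus hp hF hm)).brow

theorem rowFor_ominus : RowFor.{u} (fun p S _ => ∃ (F : Type) (_ : Field F) (_ : Fintype F) (m : ℕ)
    (a b : F), (p : F) ≠ 0 ∧ 4 ≤ m ∧
    (∀ z₁ z₂ : F, z₁ ^ 2 + a * z₁ * z₂ + b * z₂ ^ 2 = 0 → z₁ = 0 ∧ z₂ = 0) ∧
    Nonempty (S ≃* POmega F (quadFormMinus (m - 1) F a b))) := by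
  rintro p _ hp S _ _ _ _ ⟨F, _, _, m, a, b, hF, hm, hab, ⟨e⟩⟩
  exact (Row.of_equiv e (row_POmegaMinus hp hF hm hab)).brow

end Cfsg.Agent.BHZ.Nil
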